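import Cfsg.Agent.Lib.PresSymAlt.Carmichael
import Cfsg.Prelude.Def_SporadicB

/-!
# Double covers of alternating groups in which double transpositions lift to elements of order four

Only elementary consequences are needed: lifts of permutations of odd order commute as their images do, and an
involution of the cover has an image moving a multiple of eight points.
-/

set_option autoImplicit false
set_option linter.unusedSectionVars false
set_option linter.style.haveILetI false

namespace Cfsg.Lib.CoverAlt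

open Equiv Equiv.Perm Subgroup Cfsg.Lib.PresSymAlt

variable {α : Type*} [DecidableEq α]

/-- A product of two disjoint transpositions. -/
def IsDT (δ : Perm α) : Prop :=
  ∃ a b c d : α, a ≠ b ∧ c ≠ d ∧ a ≠ c ∧ a ≠ d ∧ b ≠ c ∧ b ≠ d ∧ δ = swap a b * swap c d

/-- A cover of the alternating group by a central involution, without a complement. -/
structure Cov (H : Type*) [Group H] (n : ℕ) where
  /-- the projection -/
  p : H →* Perm (Fin n)
  /-- the central involution -/
  s : H
  sign_eq : ∀ h, Perm.sign (p h) = 1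
  surj : ∀ σ : Perm (Fin n), Perm.sign σ = 1 → ∃ h, p h = σ
  ker : ∀ h, p h = 1 → h = 1 ∨ h = s
  ps : p s = 1
  s1 : s ≠ 1
  ss : s * s = 1
  comm : ∀ h, h * s = s * h
  four : ∀ h, IsDT (p h) → h * h = s

theorem tri_mul_tri {I : Type*} [DecidableEq I] [Fintype I] {i j : I} (hij : i ≠ j) :
    tri i * tri j = swap (Sum.inl i) (.inr false) * swap (Sum.inl j) (.inr true) := by
  refine Equiv.ext fun z => ?_
  rcases z with k | b
  · by_cases hk : k = i
    · subst hk; simp [Perm.mul_apply, tri_apply, hij, Equiv.swap_apply_def]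
    · by_cases hk' : k = j
      · subst hk'; simp [Perm.mul_apply, tri_apply, hij.symm, Equiv.swap_apply_def]
      · simp [Perm.mul_apply, tri_apply, hk, hk', Equiv.swap_apply_def]
  · cases b <;> simp [Perm.mul_apply, tri_apply, hij, hij.symm, Equiv.swap_apply_def]

theorem sign_dt [Fintype α] {δ : Perm α} (h : IsDT δ) : Perm.sign δ = 1 := by
  obtain ⟨a, b, c, d, hab, hcd, -, -, -, -, rfl⟩ := h
  rw [map_mul, sign_swap hab, sign_swap hcd]
  rfl

theorem dt_sq {δ : Perm α} (h : IsDT δ) : δ * δ = 1 := by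
  obtain ⟨a, b, c, d, hab, hcd, hac, had, hbc, hbd, rfl⟩ := h
  have hc : Commute (swap a b) (swap c d) := by
    refine Equiv.ext fun x => ?_
    simp only [Perm.mul_apply, swap_apply_def]
    grind
  rw [hc.symm.mul_mul_mul_comm, swap_mul_self, swap_mul_self, one_mul]

theorem cycleType_dt [Fintype α] {δ : Perm α} (h : IsDT δ) : δ.cycleType = {2, 2} := by
  obtain ⟨a, b, c, d, hab, hcd, hac, had, hbc, hbd, rfl⟩ := h
  have hd : Perm.Disjoint (swap a b) (swap c d) := by
    intro x
    simp only [swap_apply_def]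
    grind
  rw [hd.cycleType_mul, (swap_isSwap_iff.2 hab).isCycle.cycleType, (swap_isSwap_iff.2 hcd).isCycle.cycleType,
    card_support_swap hab, card_support_swap hcd]
  rfl

theorem conj_dt [Fintype α] {δ δ' : Perm α} (h : IsDT δ) (h' : IsDT δ') :
    ∃ τ : Perm α, Perm.sign τ = 1 ∧ τ * δ * τ⁻¹ = δ' := by
  obtain ⟨τ, hτ⟩ := isConj_iff.1 (isConj_iff_cycleType_eq.2 ((cycleType_dt h).trans (cycleType_dt h').symm))
  rcases Int.units_eq_one_or (Perm.sign τ) with hs | hs
  · exact ⟨τ, hs, hτ⟩
  obtain ⟨a, b, c, d, hab, hcd, hac, had, hbc, hbd, rfl⟩ := h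
  refine ⟨τ * swap a b, by rw [map_mul, hs, sign_swap hab]; rfl, ?_⟩
  rw [← hτ]
  have hc : swap a b * (swap a b * swap c d) = swap a b * swap c d * swap a b := by
    refine Equiv.ext fun x => ?_
    simp only [Perm.mul_apply, swap_apply_def]
    grind
  calc τ * swap a b * (swap a b * swap c d) * (τ * swap a b)⁻¹
      = τ * (swap a b * (swap a b * swap c d) * (swap a b)⁻¹) * τ⁻¹ := by group
    _ = _ := by rw [hc, mul_inv_cancel_right]

/-- The sum of `n - 2` points and two more points. -/
theorem exists_split {n : ℕ} (hn : 2 ≤ n) : Nonempty (Fin (n - 2) ⊕ Bool ≃ Fin n) :=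
  ⟨Fintype.equivFinOfCardEq (by rw [Fintype.card_sum, Fintype.card_fin, Fintype.card_bool]; omega)⟩

/-- A nonsplit double cover gives a cover in the above sense. -/
theorem exists_cov {H : Type*} [Group H] {n : ℕ} (hn : 5 ≤ n)
    (hH : Cfsg.IsNonsplitDoubleCover H (alternatingGroup (Fin n))) :
    ∃ K : Cov H n, ∀ h, h ∈ center H ↔ h = 1 ∨ h = K.s := by
  classical
  obtain ⟨hz, ⟨q⟩, hns⟩ := hH
  haveI : Finite (center H) := Nat.finite_of_card_ne_zero (by rw [hz]; norm_num)
  let p : H →* Perm (Fin n) :=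
    (alternatingGroup (Fin n)).subtype.comp (q.toMonoidHom.comp (QuotientGroup.mk' (center H)))
  have hker : ∀ x, p x = 1 ↔ x ∈ center H := fun x => by
    simp only [p, MonoidHom.coe_comp, Function.comp_apply, Subgroup.coe_subtype, OneMemClass.coe_eq_one,
      MulEquiv.coe_toMonoidHom, MulEquiv.map_eq_one_iff]
    exact QuotientGroup.eq_one_iff x
  obtain ⟨⟨s, hsc⟩, hs1⟩ : ∃ z : center H, z ≠ 1 := by
    haveI : Nontrivial (center H) := Finite.one_lt_card_iff_nontrivial.1 (by rw [hz]; norm_num)
    exact exists_ne 1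
  have hs : s ≠ 1 := fun e => hs1 (Subtype.ext e)
  have htwo : ∀ z ∈ center H, z = 1 ∨ z = s := fun z hz' => by
    obtain ⟨a, b, hab, hset⟩ := Nat.card_eq_two_iff.1 hz
    have hm : ∀ x : center H, x = a ∨ x = b := fun x => by
      have hx : x ∈ ({a, b} : Set (center H)) := hset ▸ Set.mem_univ x
      simpa using hx
    rcases hm ⟨z, hz'⟩ with h1 | h1 <;> rcases hm ⟨s, hsc⟩ with h2 | h2 <;> rcases hm 1 with h3 | h3
    all_goals first
      | exact absurd (congrArg Subtype.val (h2.trans h3.symm)) hs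
      | exact Or.inl (congrArg Subtype.val (h1.trans h3.symm))
      | exact Or.inr (congrArg Subtype.val (h1.trans h2.symm))
  have hc : ∀ h, h * s = s * h := fun h => mem_center_iff.1 hsc h
  have hss : s * s = 1 := by
    rcases htwo _ (mul_mem hsc hsc) with h | h
    · exact h
    · exact absurd (mul_eq_left.1 h) hs
  have hsign : ∀ h, Perm.sign (p h) = 1 := fun h => mem_alternatingGroup.1 (q _).2
  have hsurj : ∀ σ : Perm (Fin n), Perm.sign σ = 1 → ∃ h, p h = σ := fun σ hσ => by
    obtain ⟨h, hh⟩ := QuotientGroup.mk'_surjective (center H) (q.symm ⟨σ, mem_alternatingGroup.2 hσ⟩)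
    refine ⟨h, ?_⟩
    show ((q (QuotientGroup.mk' (center H) h) : alternatingGroup (Fin n)) : Perm (Fin n)) = σ
    rw [hh, MulEquiv.apply_symm_apply]
  refine ⟨⟨p, s, hsign, hsurj, fun h hh => htwo h ((hker h).1 hh), (hker s).2 hsc, hs, hss, hc,
    fun h hh => ?_⟩, fun h => ⟨htwo h, fun hh => hh.elim (fun e => e ▸ one_mem _) (fun e => e ▸ hsc)⟩⟩
  rcases htwo _ ((hker (h * h)).1 (by rw [map_mul, dt_sq hh])) with h1 | h1
  swap
  · exact h1
  -- otherwise every double transposition lifts to an involution and Carmichael's relations hold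
  exfalso
  have hall : ∀ g, IsDT (p g) → g * g = 1 := by
    intro g hg
    obtain ⟨τ, hτ, hc'⟩ := conj_dt hh hg
    obtain ⟨k, hk⟩ := hsurj τ hτ
    have : g⁻¹ * (k * h * k⁻¹) ∈ center H := (hker _).1 (by
      rw [map_mul, map_mul, map_mul, map_inv, map_inv, hk, hc', inv_mul_cancel])
    have e : (k * h * k⁻¹) * (k * h * k⁻¹) = 1 := by
      calc (k * h * k⁻¹) * (k * h * k⁻¹) = k * (h * h) * k⁻¹ := by group
        _ = 1 := by rw [h1, mul_one, mul_inv_cancel]
    rcases htwo _ this with e1 | e1
    · rw [inv_mul_eq_one.1 e1]; exact e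
    · have e2 : g = k * h * k⁻¹ * s := by
        rw [inv_mul_eq_iff_eq_mul] at e1
        rw [e1, mul_assoc, hss, mul_one]
      rw [e2]
      calc k * h * k⁻¹ * s * (k * h * k⁻¹ * s) = k * h * k⁻¹ * (s * (k * h * k⁻¹)) * s := by group
        _ = (k * h * k⁻¹) * (k * h * k⁻¹) * (s * s) := by rw [← hc]; group
        _ = 1 := by rw [e, hss, mul_one]
  obtain ⟨e⟩ := exists_split (n := n) (by omega)
  let E : Perm (Fin (n - 2) ⊕ Bool) ≃* Perm (Fin n) := e.permCongrHom
  let p' : H →* Perm (Fin (n - 2) ⊕ Bool) := E.symm.toMonoidHom.comp p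
  have hp' : ∀ x, p' x = E.symm (p x) := fun x => rfl
  have hEsign : ∀ σ, Perm.sign (E σ) = Perm.sign σ := fun σ => sign_permCongr e σ
  have ht : ∀ j : Fin (n - 2), ∃ x : H, p' x = tri j ∧ x ^ 3 = 1 := by
    intro j
    obtain ⟨u, hu⟩ := hsurj (E (tri j)) (by
      rw [hEsign]; exact mem_alternatingGroup.1 (tri_mem j))
    have hu' : p' u = tri j := by rw [hp', hu, MulEquiv.symm_apply_apply]
    have ht3 : tri j ^ 3 = 1 := tri_carRel.cube j
    refine ⟨u ^ 4, by rw [map_pow, hu', pow_succ, ht3, one_mul], ?_⟩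
    have h3 : p (u ^ 3) = 1 := by
      rw [map_pow, hu]
      rw [← map_pow, ht3, map_one]
    rw [← pow_mul, show 4 * 3 = 3 * 2 * 2 by norm_num, pow_mul, pow_mul, pow_two (u ^ 3)]
    rcases htwo _ ((hker _).1 h3) with h' | h' <;> simp [h', hss]
  choose X hX hX3 using ht
  have hcar : CarRel X := by
    refine ⟨hX3, fun i j hij => ?_⟩
    rw [pow_two]
    refine hall _ ?_
    have h2 : p (X i * X j) = E (p' (X i * X j)) := by rw [hp', MulEquiv.apply_symm_apply]
    rw [h2, map_mul p', hX, hX, tri_mul_tri hij]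
    refine ⟨e (.inl i), e (.inr false), e (.inl j), e (.inr true), ?_, ?_, ?_, ?_, ?_, ?_, ?_⟩
    rotate_right
    · show e.permCongr _ = _
      refine Equiv.ext fun z => ?_
      obtain ⟨w, rfl⟩ := e.surjective z
      simp only [Equiv.permCongr_apply, symm_apply_apply, Perm.mul_apply]
      simp [e.injective.swap_apply]
    all_goals simp [e.injective.eq_iff, hij]
  haveI : Nonempty (Fin (n - 2)) := ⟨⟨0, by omega⟩⟩
  obtain ⟨φ, hφ, -⟩ := carmichael hcar
  have hpA : ∀ x, p' x ∈ alternatingGroup (Fin (n - 2) ⊕ Bool) := fun x => by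
    rw [mem_alternatingGroup, hp', ← hEsign, MulEquiv.apply_symm_apply]
    exact hsign x
  let pA : H →* alternatingGroup (Fin (n - 2) ⊕ Bool) := p'.codRestrict _ hpA
  have hid : pA.comp φ = MonoidHom.id _ := hom_ext_tri fun i => by
    rw [MonoidHom.comp_apply, hφ]
    exact Subtype.ext (hX i)
  have hkA : ∀ x, pA x = 1 ↔ x ∈ center H := fun x => by
    rw [← hker x]
    constructor
    · intro h'
      have : p' x = 1 := congrArg Subtype.val h'
      rwa [hp', MulEquiv.map_eq_one_iff] at this
    · intro h'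
      exact Subtype.ext (show p' x = 1 by rw [hp', h', map_one])
  refine hns φ.range (Subgroup.isComplement'_of_disjoint_and_mul_eq_univ ?_ ?_)
  · rw [disjoint_iff, eq_bot_iff]
    rintro x ⟨hx, a, rfl⟩
    have := (hkA _).2 hx
    rw [← MonoidHom.comp_apply, hid] at this
    simp only [MonoidHom.id_apply] at this
    simp [this]
  · refine Set.eq_univ_of_forall fun x => ?_
    refine ⟨x * (φ (pA x))⁻¹, (hkA _).1 ?_, φ (pA x), ⟨_, rfl⟩, by simp⟩
    rw [map_mul, map_inv, ← MonoidHom.comp_apply pA φ, hid]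
    simp

namespace Cov

variable {H : Type*} [Group H] {n : ℕ} (K : Cov H n)

theorem eq_or_eq {x y : H} (h : K.p x = K.p y) : x = y ∨ x = y * K.s := by
  rcases K.ker (y⁻¹ * x) (by rw [map_mul, map_inv, h, inv_mul_cancel]) with e | e
  · exact Or.inl (inv_mul_eq_one.1 e).symm
  · exact Or.inr (by rw [← e, mul_inv_cancel_left])

theorem mul_s_ne (x : H) : x * K.s ≠ x := fun e => K.s1 (mul_eq_left.1 e)

theorem pow_s_odd {m : ℕ} (hm : Odd m) : K.s ^ m = K.s := by
  obtain ⟨k, rfl⟩ := hm
  rw [pow_succ, pow_mul, pow_two, K.ss, one_pow, one_mul]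

theorem p_mul_s (x : H) : K.p (x * K.s) = K.p x := by rw [map_mul, K.ps, mul_one]

/-- An element of odd order commutes with everything whose image commutes with its image. -/
theorem comm_of_odd {x g : H} (hx : Odd (orderOf x)) (h : Commute (K.p x) (K.p g)) : Commute x g := by
  rcases K.eq_or_eq (x := g * x * g⁻¹) (y := x) (by
    rw [map_mul, map_mul, map_inv, ← h.eq, mul_inv_cancel_right]) with e | e
  · exact (mul_inv_eq_iff_eq_mul.1 e).symm
  · exfalso
    have h1 : (g * x * g⁻¹) ^ orderOf x = 1 := by rw [conj_pow, pow_orderOf_eq_one, mul_one, mul_inv_cancel]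
    have hc : Commute x K.s := K.comm x
    rw [e, hc.mul_pow, pow_orderOf_eq_one, one_mul, K.pow_s_odd hx] at h1
    exact K.s1 h1

/-- A lift of odd order. -/
theorem exists_odd_lift {σ : Perm (Fin n)} (hσ : Odd (orderOf σ)) :
    ∃ x, K.p x = σ ∧ x ^ orderOf σ = 1 := by
  have hs : Perm.sign σ = 1 := by
    have := congrArg Perm.sign (pow_orderOf_eq_one σ)
    rw [map_pow, map_one] at this
    obtain ⟨k, hk⟩ := hσ
    rcases Int.units_eq_one_or (Perm.sign σ) with h | h
    · exact h
    · rw [h, hk, pow_succ, pow_mul, pow_two] at this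
      simp at this
  obtain ⟨u, hu⟩ := K.surj σ hs
  rcases K.ker (u ^ orderOf σ) (by rw [map_pow, hu, pow_orderOf_eq_one]) with e | e
  · exact ⟨u, hu, e⟩
  · refine ⟨u * K.s, by rw [K.p_mul_s, hu], ?_⟩
    have hc : Commute u K.s := K.comm u
    rw [hc.mul_pow, e, K.pow_s_odd hσ, K.ss]

theorem odd_of_pow {x : H} {m : ℕ} (hm : Odd m) (h : x ^ m = 1) : Odd (orderOf x) :=
  hm.of_dvd_nat (orderOf_dvd_of_pow_eq_one h)

/-- A lift of a double transposition commutes with everything fixing the four points. -/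
theorem comm_of_fix {g h : H} {a b c d : Fin n} (hab : a ≠ b) (hcd : c ≠ d) (hac : a ≠ c) (had : a ≠ d)
    (hbc : b ≠ c) (hbd : b ≠ d) (hg : K.p g = swap a b * swap c d)
    (ha : K.p h a = a) (hb : K.p h b = b) (hc : K.p h c = c) (hd : K.p h d = d) : Commute g h := by
  have key : ∀ x y z : Fin n, x ≠ y → x ≠ z → y ≠ z → K.p h x = x → K.p h y = y → K.p h z = z →
      ∃ u, K.p u = swap x y * swap x z ∧ Commute u h := by
    intro x y z hxy hxz hyz hx hy hz
    have h3 := isThreeCycle_swap_mul_swap_same hxy hxz hyz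
    obtain ⟨u, hu, hu'⟩ := K.exists_odd_lift (σ := swap x y * swap x z) (by rw [h3.orderOf]; decide)
    refine ⟨u, hu, K.comm_of_odd (odd_of_pow (by rw [h3.orderOf]; decide) hu') ?_⟩
    rw [hu]
    have hs : ∀ i j : Fin n, K.p h i = i → K.p h j = j → Commute (swap i j) (K.p h) := fun i j hi hj => by
      refine Equiv.ext fun w => ?_
      rw [Perm.mul_apply, Perm.mul_apply]
      by_cases h1 : w = i
      · subst h1; simp [hi, hj]
      by_cases h2 : w = j
      · subst h2; simp [hi, hj]
      rw [swap_apply_of_ne_of_ne h1 h2, swap_apply_of_ne_of_ne]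
      · exact fun e => h1 ((K.p h).injective (e.trans hi.symm))
      · exact fun e => h2 ((K.p h).injective (e.trans hj.symm))
    exact (hs x y hx hy).mul_left (hs x z hx hz)
  obtain ⟨u, hu, huc⟩ := key a b c hab hac hbc ha hb hc
  obtain ⟨w, hw, hwc⟩ := key c a d hac.symm hcd had hc ha hd
  have he : K.p g = K.p (u * w) := by
    rw [map_mul, hu, hw, hg, mul_assoc, ← mul_assoc (swap a c) (swap c a), swap_comm c a, swap_mul_self, one_mul]
  rcases K.eq_or_eq he with e | e <;> rw [e]
  · exact huc.mul_left hwc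
  · exact (huc.mul_left hwc).mul_left (K.comm h).symm

/-- Lifts of double transpositions with a double transposition as product anticommute. -/
theorem anticomm {x y : H} (hx : IsDT (K.p x)) (hy : IsDT (K.p y)) (hxy : IsDT (K.p x * K.p y)) :
    x * y = y * x * K.s := by
  have h1 : x * y * (x * y) = K.s := K.four _ (by rwa [map_mul])
  have h2 : x * y * (y * x) = 1 := by
    rw [← mul_assoc, mul_assoc x y y, K.four y hy, mul_assoc, ← K.comm x, ← mul_assoc, K.four x hx, K.ss]
  calc x * y = K.s * (x * y)⁻¹ := eq_mul_inv_of_mul_eq h1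
    _ = (x * y)⁻¹ * K.s := (K.comm _).symm
    _ = y * x * K.s := by rw [inv_eq_of_mul_eq_one_right h2]

/-- An element of square one moves a multiple of eight points. -/
theorem dvd_card_support {x : H} (hx : x * x = 1) : 8 ∣ (K.p x).support.card := by
  suffices key : ∀ m, ∀ x : H, (K.p x).support.card = m → K.p x * K.p x = 1 →
      ∃ r, m = 4 * r ∧ x * x = K.s ^ r by
    obtain ⟨r, hr, hxx⟩ := key _ x rfl (by rw [← map_mul, hx, map_one])
    rw [hr]
    rcases Nat.even_or_odd r with ⟨k, hk⟩ | h
    · exact ⟨k, by omega⟩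
    · rw [hx, K.pow_s_odd h] at hxx
      exact absurd hxx.symm K.s1
  intro m
  induction m using Nat.strong_induction_on with
  | _ m ih =>
    intro x hm hinv
    set σ := K.p x with hσ
    have hinv' : ∀ w, σ (σ w) = w := fun w => by rw [← Perm.mul_apply, hinv, Perm.one_apply]
    rcases Nat.eq_zero_or_pos m with h0 | h0
    · refine ⟨0, by omega, ?_⟩
      rw [pow_zero]
      have : K.p x = 1 := support_eq_empty_iff.1 (Finset.card_eq_zero.1 (hm.trans h0))
      rcases K.ker x this with e | e <;> rw [e]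
      exacts [one_mul 1, K.ss]
    obtain ⟨a, ha⟩ := Finset.card_pos.1 (hm ▸ h0)
    rw [mem_support] at ha
    obtain ⟨c, hc, hca, hcb⟩ : ∃ c, σ c ≠ c ∧ c ≠ a ∧ c ≠ σ a := by
      by_contra hno
      push Not at hno
      have hsw : σ = swap a (σ a) := Equiv.ext fun w => by
        by_cases h1 : w = a
        · subst h1; rw [swap_apply_left]
        by_cases h2 : w = σ a
        · rw [h2, swap_apply_right, hinv']
        rw [swap_apply_of_ne_of_ne h1 h2]
        by_contra h3
        exact h2 (hno w h3 h1)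
      have h1 := K.sign_eq x
      rw [← hσ, hsw, sign_swap (Ne.symm ha)] at h1
      exact absurd h1 (by decide)
    have hac' : a ≠ σ c := fun e => hcb (by rw [e, hinv'])
    have hbd : σ a ≠ σ c := fun e => hca (σ.injective e).symm
    set δ := swap a (σ a) * swap c (σ c) with hδ
    have hdt : IsDT δ := ⟨a, σ a, c, σ c, Ne.symm ha, Ne.symm hc, hca.symm, hac', hcb.symm, hbd, rfl⟩
    obtain ⟨y, hy⟩ := K.surj δ (sign_dt hdt)
    set x' := y⁻¹ * x with hx'
    have hδi : δ⁻¹ = δ := inv_eq_of_mul_eq_one_left (dt_sq hdt)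
    have hpx : ∀ w, K.p x' w = if w = a ∨ w = σ a ∨ w = c ∨ w = σ c then w else σ w := by
      intro w
      rw [hx', map_mul, map_inv, hy, hδi, ← hσ, hδ, Perm.mul_apply, Perm.mul_apply]
      have hne : ∀ u v, σ u ≠ v → u ≠ σ v := fun u v h e => h (by rw [e, hinv'])
      split_ifs with hw
      · rcases hw with rfl | rfl | rfl | rfl <;> simp only [hinv', swap_apply_def] <;> grind
      · push Not at hw
        obtain ⟨w1, w2, w3, w4⟩ := hw
        rw [swap_apply_of_ne_of_ne (fun e => w4 (by rw [← e, hinv'])) (fun e => w3 (σ.injective e)),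
          swap_apply_of_ne_of_ne (fun e => w2 (by rw [← e, hinv'])) (fun e => w1 (σ.injective e))]
    have hsub : (K.p x').support = σ.support \ {a, σ a, c, σ c} := by
      ext w
      simp only [mem_support, Finset.mem_sdiff, Finset.mem_insert, Finset.mem_singleton, hpx]
      split_ifs with hw <;> simp [hw]
    have h4 : ({a, σ a, c, σ c} : Finset (Fin n)).card = 4 := by
      rw [Finset.card_insert_of_notMem (by simp [Ne.symm ha, hca.symm, hac']),
        Finset.card_insert_of_notMem (by simp [hcb.symm, hbd]), Finset.card_insert_of_notMem (by simp [Ne.symm hc]),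
        Finset.card_singleton]
    have hle : ({a, σ a, c, σ c} : Finset (Fin n)) ⊆ σ.support := by
      intro w hw
      simp only [Finset.mem_insert, Finset.mem_singleton] at hw
      rw [mem_support]
      rcases hw with rfl | rfl | rfl | rfl
      exacts [ha, by rw [hinv']; exact Ne.symm ha, hc, by rw [hinv']; exact Ne.symm hc]
    have hcard : (K.p x').support.card = m - 4 := by
      rw [hsub, Finset.card_sdiff_of_subset hle, hm, h4]
    have hm4 : 4 ≤ m := by
      have := Finset.card_le_card hle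
      omega
    have hfix : ∀ w, (w = a ∨ w = σ a ∨ w = c ∨ w = σ c) → K.p x' w = w := fun w hw => by
      rw [hpx, if_pos hw]
    have hcomm : Commute y x' := K.comm_of_fix (Ne.symm ha) (Ne.symm hc) hca.symm hac' hcb.symm hbd hy
      (hfix _ (Or.inl rfl)) (hfix _ (Or.inr (Or.inl rfl))) (hfix _ (Or.inr (Or.inr (Or.inl rfl))))
      (hfix _ (Or.inr (Or.inr (Or.inr rfl))))
    have hx'2 : K.p x' * K.p x' = 1 := by
      refine Equiv.ext fun w => ?_
      rw [Perm.mul_apply, Perm.one_apply, hpx w]
      split_ifs with hw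
      · exact hfix w hw
      · rw [hpx, if_neg]
        · exact hinv' w
        · rintro (e | e | e | e)
          · exact hw (Or.inr (Or.inl (by rw [← e, hinv'])))
          · exact hw (Or.inl (σ.injective e))
          · exact hw (Or.inr (Or.inr (Or.inr (by rw [← e, hinv']))))
          · exact hw (Or.inr (Or.inr (Or.inl (σ.injective e))))
    obtain ⟨r, hr, hxx⟩ := ih (m - 4) (by omega) x' hcard hx'2
    refine ⟨r + 1, by omega, ?_⟩
    calc x * x = y * x' * (y * x') := by rw [hx', mul_inv_cancel_left]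
      _ = y * y * (x' * x') := hcomm.symm.mul_mul_mul_comm y x'
      _ = _ := by rw [K.four y (by rw [hy]; exact hdt), hxx, pow_succ']

end Cov

end Cfsg.Lib.CoverAlt
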