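import Cfsg.Agent.Lib.CoverAlt.Cover

/-!
# The part of degree eight of a cover
-/

set_option autoImplicit false
set_option linter.unusedSectionVars false
set_option linter.style.haveILetI false

namespace Cfsg.Lib.CoverAlt

open Equiv Equiv.Perm Subgroup

variable {H : Type*} [Group H] {n : ℕ}

/-- The elements whose image fixes the points from the ninth on. -/
def eightPart (K : Cov H n) : Subgroup H where
  carrier := {x | ∀ i : Fin n, 8 ≤ (i : ℕ) → K.p x i = i}
  one_mem' i _ := by simp
  mul_mem' {a b} ha hb i hi := by rw [map_mul, Perm.mul_apply, hb i hi, ha i hi]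
  inv_mem' {a} ha i hi := by
    rw [map_inv]
    exact (K.p a).symm_apply_eq.2 (ha i hi).symm

theorem s_mem_eightPart (K : Cov H n) : K.s ∈ eightPart K := fun i _ => by simp [K.ps]

theorem eightPart_stable (K : Cov H n) {x : H} (hx : x ∈ eightPart K) (i : Fin n) :
    (K.p x i : ℕ) < 8 ↔ (i : ℕ) < 8 := by
  constructor
  · intro h
    by_contra hi
    rw [hx i (not_lt.1 hi)] at h
    exact hi h
  · intro hi
    by_contra h
    have := hx (K.p x i) (not_lt.1 h)
    rw [(K.p x).injective this] at h
    exact h hi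

/-- The projection to eight points. -/
noncomputable def eightProj (K : Cov H n) (hn : 8 ≤ n) : eightPart K →* Perm (Fin 8) :=
  (Fin.castLEquiv hn).symm.permCongrHom.toMonoidHom.comp
    { toFun := fun x => (K.p (x : H)).subtypePerm (p := fun i : Fin n => (i : ℕ) < 8) (eightPart_stable K x.2)
      map_one' := Equiv.ext fun i => Subtype.ext (by simp)
      map_mul' := fun a b => Equiv.ext fun i => Subtype.ext (by simp; rfl) }

theorem eightProj_apply (K : Cov H n) (hn : 8 ≤ n) (x : eightPart K) (i : Fin 8) :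
    Fin.castLE hn (eightProj K hn x i) = K.p (x : H) (Fin.castLE hn i) := rfl

theorem eightProj_eq_one (K : Cov H n) (hn : 8 ≤ n) {x : eightPart K} (h : eightProj K hn x = 1) :
    K.p (x : H) = 1 := by
  refine Equiv.ext fun i => ?_
  rcases lt_or_ge (i : ℕ) 8 with hi | hi
  · have := eightProj_apply K hn x ⟨i, hi⟩
    rw [h] at this
    exact this.symm
  · exact x.2 i hi

theorem sign_eightProj (K : Cov H n) (hn : 8 ≤ n) (x : eightPart K) : Perm.sign (eightProj K hn x) = 1 := by
  refine (sign_permCongr _ _).trans ?_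
  refine (sign_subtypePerm (K.p (x : H)) (eightPart_stable K x.2) fun i hi => ?_).trans (K.sign_eq _)
  by_contra h
  exact hi (x.2 i (not_lt.1 h))

theorem eightProj_surj (K : Cov H n) (hn : 8 ≤ n) (σ : Perm (Fin 8)) (hσ : Perm.sign σ = 1) :
    ∃ x : eightPart K, eightProj K hn x = σ := by
  set σ' := Perm.ofSubtype ((Fin.castLEquiv hn).permCongr σ) with hσ'
  obtain ⟨x, hx⟩ := K.surj σ' (by rw [hσ', sign_ofSubtype, sign_permCongr, hσ])
  have hmem : x ∈ eightPart K := fun i hi => by
    rw [hx, hσ']
    exact Perm.ofSubtype_apply_of_not_mem _ (not_lt.2 hi)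
  refine ⟨⟨x, hmem⟩, Equiv.ext fun i => Fin.castLE_injective hn ?_⟩
  rw [eightProj_apply, hx, hσ', Perm.ofSubtype_apply_of_mem (p := fun i : Fin n => (i : ℕ) < 8) _ (show ((Fin.castLE hn i : Fin n) : ℕ) < 8 from i.2)]
  simp [Equiv.permCongr_apply, Fin.castLEquiv]

theorem eight_cover (K : Cov H n) (hn : 8 ≤ n) :
    Cfsg.IsNonsplitDoubleCover (eightPart K) (alternatingGroup (Fin 8)) := by
  classical
  set p := eightProj K hn
  have hker : ∀ x, p x = 1 → (x : H) = 1 ∨ (x : H) = K.s := fun x hx => K.ker _ (eightProj_eq_one K hn hx)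
  let q : eightPart K →* alternatingGroup (Fin 8) :=
    p.codRestrict _ fun x => mem_alternatingGroup.2 (sign_eightProj K hn x)
  have hq : Function.Surjective q := fun σ => by
    obtain ⟨x, hx⟩ := eightProj_surj K hn σ.1 (mem_alternatingGroup.1 σ.2)
    exact ⟨x, Subtype.ext hx⟩
  have hc : ∀ x : eightPart K, x ∈ center ↥(eightPart K) ↔ (x : H) = 1 ∨ (x : H) = K.s := by
    intro x
    constructor
    · intro hx
      have h1 : q x ∈ center (alternatingGroup (Fin 8)) := mem_center_iff.2 fun σ => by
        obtain ⟨y, rfl⟩ := hq σ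
        rw [← map_mul, ← map_mul, mem_center_iff.1 hx y]
      rw [_root_.alternatingGroup.center_eq_bot (by simp), mem_bot] at h1
      exact hker x (congrArg Subtype.val h1)
    · intro hx
      rw [mem_center_iff]
      intro y
      apply Subtype.ext
      rcases hx with e | e <;> simp only [Subgroup.coe_mul, e, mul_one, one_mul]
      exact K.comm _
  have hqk : q.ker = center ↥(eightPart K) := by
    ext x
    rw [MonoidHom.mem_ker, hc]
    constructor
    · exact fun h => hker x (congrArg Subtype.val h)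
    · intro h
      refine Subtype.ext (Equiv.ext fun i => Fin.castLE_injective hn ?_)
      rw [show ((q x : alternatingGroup (Fin 8)) : Perm (Fin 8)) i = eightProj K hn x i from rfl,
        eightProj_apply]
      rcases h with e | e <;> rw [e] <;> simp [K.ps]
  refine ⟨?_, ⟨(QuotientGroup.quotientMulEquivOfEq hqk.symm).trans
    (QuotientGroup.quotientKerEquivOfSurjective q hq)⟩, fun L hL => ?_⟩
  · rw [Nat.card_eq_two_iff]
    refine ⟨⟨⟨1, one_mem _⟩, (hc _).2 (Or.inl rfl)⟩, ⟨⟨K.s, s_mem_eightPart K⟩, (hc _).2 (Or.inr rfl)⟩, ?_, ?_⟩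
    · exact fun e => K.s1 (congrArg (fun x : center ↥(eightPart K) => ((x : eightPart K) : H)) e).symm
    · ext x
      simp only [Set.mem_insert_iff, Set.mem_singleton_iff, Set.mem_univ, iff_true]
      rcases (hc x.1).1 x.2 with e | e
      · exact Or.inl (Subtype.ext (Subtype.ext e))
      · exact Or.inr (Subtype.ext (Subtype.ext e))
  · let f : Fin 8 → Fin n := Fin.castLE hn
    have hf := Fin.castLE_injective hn
    have hdt : IsDT (swap (f 0) (f 1) * swap (f 2) (f 3)) :=
      ⟨_, _, _, _, hf.ne (by decide), hf.ne (by decide), hf.ne (by decide), hf.ne (by decide),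
        hf.ne (by decide), hf.ne (by decide), rfl⟩
    obtain ⟨d, hd⟩ := K.surj _ (sign_dt hdt)
    have hdm : d ∈ eightPart K := fun i hi => by
      have hne : ∀ j : Fin 8, i ≠ f j := fun j e => by
        have := congrArg Fin.val e
        simp [f] at this
        omega
      rw [hd, Perm.mul_apply, swap_apply_of_ne_of_ne (hne 2) (hne 3), swap_apply_of_ne_of_ne (hne 0) (hne 1)]
    obtain ⟨⟨c, l⟩, hcl⟩ := hL.2 ⟨d, hdm⟩
    have hl : ((l : eightPart K) : H) = d ∨ ((l : eightPart K) : H) = d * K.s := by
      refine K.eq_or_eq ?_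
      have := congrArg (fun x : eightPart K => K.p (x : H)) hcl
      simp only [Subgroup.coe_mul, map_mul] at this
      rcases (hc c.1).1 c.2 with e | e <;> rw [e] at this <;> simpa [K.ps] using this
    have h4 : ((l : eightPart K) : H) * ((l : eightPart K) : H) = K.s :=
      K.four _ (by rcases hl with e | e <;> rw [e] <;> [skip; rw [K.p_mul_s]] <;> rw [hd] <;> exact hdt)
    have hmem : (l : eightPart K) * (l : eightPart K) ∈ center ↥(eightPart K) ⊓ L :=
      ⟨(hc _).2 (Or.inr h4), mul_mem l.2 l.2⟩
    rw [hL.disjoint.eq_bot, mem_bot] at hmem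
    exact K.s1 (h4.symm.trans (congrArg Subtype.val hmem))

end Cfsg.Lib.CoverAlt
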