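import Cfsg.Agent.Lib.CoverAlt.Twist

/-!
# In degree at least thirteen the two involutions of a commuting pair are distinguished

If the centralizer of `z` is a double cover of the alternating group and `t` is another involution there, the
group of elements centralizing both determines which of the two is `z`.
-/

set_option autoImplicit false
set_option linter.unusedSectionVars false

namespace Cfsg.Lib.CoverAlt

open Equiv Equiv.Perm

section Sets

variable {G : Type*} [Group G]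

/-- The elements commuting with both. -/
def dSet (z t : G) : Set G := {g | g * z = z * g ∧ g * t = t * g}

/-- The elements commuting with their conjugates modulo the two. -/
def ySet (z t : G) : Set G :=
  {y | y ∈ dSet z t ∧ ∀ d ∈ dSet z t, y * (d * y * d⁻¹) * y⁻¹ * (d * y * d⁻¹)⁻¹ ∈ ({1, z, t, z * t} : Set G)}

/-- A commutator of such elements. -/
def Phi1 (z t x : G) : Prop := ∃ u ∈ ySet z t, ∃ w ∈ ySet z t, u * w * u⁻¹ * w⁻¹ = x

/-- A commutator of elements centralizing all of them. -/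
def Phi2 (z t x : G) : Prop :=
  ∃ u ∈ dSet z t, ∃ w ∈ dSet z t, (∀ y ∈ ySet z t, u * y = y * u ∧ w * y = y * w) ∧ u * w * u⁻¹ * w⁻¹ = x

theorem dSet_swap {z t : G} : dSet t z = dSet z t := by
  ext g; exact ⟨fun h => ⟨h.2, h.1⟩, fun h => ⟨h.2, h.1⟩⟩

theorem ySet_swap {z t : G} (h : z * t = t * z) : ySet t z = ySet z t := by
  have e : ({1, t, z, t * z} : Set G) = {1, z, t, z * t} := by
    rw [h, Set.insert_comm t z]
  ext g
  simp only [ySet, dSet_swap (z := z) (t := t), e]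

theorem dSet_conj (a : G) {z t g : G} :
    a * g * a⁻¹ ∈ dSet (a * z * a⁻¹) (a * t * a⁻¹) ↔ g ∈ dSet z t := by
  simp only [dSet, Set.mem_setOf_eq]
  constructor <;> rintro ⟨h1, h2⟩
  · have key : ∀ x : G, a * g * a⁻¹ * (a * x * a⁻¹) = a * x * a⁻¹ * (a * g * a⁻¹) → g * x = x * g := by
      intro x hx
      rw [conj_mul, conj_mul] at hx
      exact mul_left_cancel (mul_right_cancel hx)
    exact ⟨key z h1, key t h2⟩
  · exact ⟨by rw [conj_mul, conj_mul, h1], by rw [conj_mul, conj_mul, h2]⟩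

theorem ySet_conj (a : G) {z t g : G} :
    a * g * a⁻¹ ∈ ySet (a * z * a⁻¹) (a * t * a⁻¹) ↔ g ∈ ySet z t := by
  simp only [ySet, Set.mem_setOf_eq, dSet_conj, Set.mem_insert_iff, Set.mem_singleton_iff]
  refine and_congr_right fun _ => ⟨fun h d hd => ?_, fun h d hd => ?_⟩
  · have h' := h (a * d * a⁻¹) ((dSet_conj a).2 hd)
    have e : a * g * a⁻¹ * (a * d * a⁻¹ * (a * g * a⁻¹) * (a * d * a⁻¹)⁻¹) * (a * g * a⁻¹)⁻¹ *
        (a * d * a⁻¹ * (a * g * a⁻¹) * (a * d * a⁻¹)⁻¹)⁻¹ =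
        a * (g * (d * g * d⁻¹) * g⁻¹ * (d * g * d⁻¹)⁻¹) * a⁻¹ := by group
    rw [e, conj_mul, conj_eq_one_iff] at h'
    simpa [mul_left_cancel_iff, mul_right_cancel_iff] using h'
  · obtain ⟨d', rfl⟩ : ∃ d', a * d' * a⁻¹ = d := ⟨a⁻¹ * d * a, by group⟩
    have e : a * g * a⁻¹ * (a * d' * a⁻¹ * (a * g * a⁻¹) * (a * d' * a⁻¹)⁻¹) * (a * g * a⁻¹)⁻¹ *
        (a * d' * a⁻¹ * (a * g * a⁻¹) * (a * d' * a⁻¹)⁻¹)⁻¹ =
        a * (g * (d' * g * d'⁻¹) * g⁻¹ * (d' * g * d'⁻¹)⁻¹) * a⁻¹ := by group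
    rw [e, conj_mul, conj_eq_one_iff]
    simpa [mul_left_cancel_iff, mul_right_cancel_iff] using h d' ((dSet_conj a).1 hd)

theorem Phi1.conj (a : G) {z t x : G} (h : Phi1 z t x) :
    Phi1 (a * z * a⁻¹) (a * t * a⁻¹) (a * x * a⁻¹) := by
  obtain ⟨u, hu, w, hw, e⟩ := h
  exact ⟨_, (ySet_conj a).2 hu, _, (ySet_conj a).2 hw, by rw [← e]; group⟩

theorem Phi2.conj (a : G) {z t x : G} (h : Phi2 z t x) :
    Phi2 (a * z * a⁻¹) (a * t * a⁻¹) (a * x * a⁻¹) := by
  obtain ⟨u, hu, w, hw, hc, e⟩ := h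
  refine ⟨_, (dSet_conj a).2 hu, _, (dSet_conj a).2 hw, fun y hy => ?_, by rw [← e]; group⟩
  obtain ⟨y', rfl⟩ : ∃ y', a * y' * a⁻¹ = y := ⟨a⁻¹ * y * a, by group⟩
  obtain ⟨h1, h2⟩ := hc y' ((ySet_conj a).1 hy)
  exact ⟨by rw [conj_mul, conj_mul, h1], by rw [conj_mul, conj_mul, h2]⟩

end Sets

variable {G : Type*} [Group G] {n : ℕ} {z : G} {K : Cov (Subgroup.centralizer ({z} : Set G)) n}
  {t : Subgroup.centralizer ({z} : Set G)}

set_option quotPrecheck false in
local notation "C" => Subgroup.centralizer ({z} : Set G)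

theorem mem_dSet_coe {d : C} (hd : d * t = t * d) : (d : G) ∈ dSet z (t : G) :=
  ⟨Subgroup.mem_centralizer_singleton_iff.1 d.2, congrArg Subtype.val hd⟩

theorem exists_coe {g : G} (hg : g ∈ dSet z (t : G)) : ∃ d : C, (d : G) = g ∧ d * t = t * d :=
  ⟨⟨g, Subgroup.mem_centralizer_singleton_iff.2 hg.1⟩, rfl, Subtype.ext hg.2⟩

theorem z0_coe (hs : (K.s : G) = z) {x : C} :
    (x : G) ∈ ({1, z, (t : G), z * (t : G)} : Set G) ↔ x ∈ ({1, K.s, t, K.s * t} : Set C) := by
  simp only [Set.mem_insert_iff, Set.mem_singleton_iff, ← hs, ← Subgroup.coe_mul, ← Subtype.ext_iff,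
    OneMemClass.coe_eq_one]

theorem tame_iff (hs : (K.s : G) = z) {y : C} : (y : G) ∈ ySet z (t : G) ↔ Tame K t y := by
  constructor
  · rintro ⟨hy, h⟩
    refine ⟨Subtype.ext hy.2, fun d hd => (z0_coe hs).1 ?_⟩
    exact h d (mem_dSet_coe hd)
  · intro h
    refine ⟨mem_dSet_coe h.comm, fun g hg => ?_⟩
    obtain ⟨d, rfl, hd⟩ := exists_coe hg
    exact (z0_coe hs).2 (h.tame d hd)

theorem exists_tame (hs : (K.s : G) = z) {g : G} (hg : g ∈ ySet z (t : G)) : ∃ y : C, (y : G) = g ∧ Tame K t y := by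
  obtain ⟨y, rfl, -⟩ := exists_coe hg.1
  exact ⟨y, rfl, (tame_iff hs).1 hg⟩

variable (htt : t * t = 1)
include htt

theorem flip_spec {a c : Fin n} (ha : K.p t a ≠ a) (hc : K.p t c ≠ c) (hac : rep K t a ≠ rep K t c) :
    ∃ q : C, K.p q = swap a (K.p t a) * swap c (K.p t c) ∧ IsDT (K.p q) ∧ Tame K t q := by
  have i2 := inv_inv_of_sq K htt
  rw [Ne, rep_eq_iff K htt] at hac
  push Not at hac
  have h1 : K.p t a ≠ c := fun e => hac.2 (by rw [← e, i2])
  have h2 : K.p t a ≠ K.p t c := fun e => hac.1 ((K.p t).injective e)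
  have hdt : IsDT (swap a (K.p t a) * swap c (K.p t c)) :=
    ⟨a, K.p t a, c, K.p t c, ha.symm, hc.symm, hac.1, hac.2, h1, h2, rfl⟩
  obtain ⟨q, hq⟩ := K.surj _ (sign_dt hdt)
  have hqi : (K.p q)⁻¹ = K.p q := inv_eq_of_mul_eq_one_left (by rw [hq]; exact dt_sq hdt)
  have hfix : ∀ x, x = a ∨ x = K.p t a ∨ x = c ∨ x = K.p t c → K.p (q⁻¹ * t) x = x := by
    intro x hx
    rw [map_mul, map_inv, hqi, hq, Perm.mul_apply, Perm.mul_apply]
    have := i2 a; have := i2 c
    simp only [swap_apply_def]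
    grind
  have hcomm : Commute q (q⁻¹ * t) := K.comm_of_fix ha.symm hc.symm hac.1 hac.2 h1 h2 hq
    (hfix _ (Or.inl rfl)) (hfix _ (Or.inr (Or.inl rfl))) (hfix _ (Or.inr (Or.inr (Or.inl rfl))))
    (hfix _ (Or.inr (Or.inr (Or.inr rfl))))
  have hqt : q * t = t * q := by
    calc q * t = q * (q * (q⁻¹ * t)) := by rw [mul_inv_cancel_left]
      _ = q * ((q⁻¹ * t) * q) := by rw [hcomm.eq]
      _ = t * q := by group
  refine ⟨q, hq, hq ▸ hdt, hqt, fun d hd => ?_⟩
  have hb : ∀ x, K.p q x = x ∨ K.p q x = K.p t x := fun x => by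
    have := i2 a; have := i2 c
    rw [hq]
    simp only [Perm.mul_apply, swap_apply_def]
    grind
  have hb' : ∀ x, K.p (d * q * d⁻¹) x = x ∨ K.p (d * q * d⁻¹) x = K.p t x := fun x => by
    rw [map_mul, map_mul, map_inv, Perm.mul_apply, Perm.mul_apply]
    rcases hb ((K.p d)⁻¹ x) with e | e <;> rw [e]
    · exact Or.inl (apply_inv_self' _ _)
    · right
      rw [commute_p K hd, apply_inv_self']
  have key : K.p (q * (d * q * d⁻¹)) = K.p (d * q * d⁻¹ * q) := by
    rw [map_mul K.p q, map_mul K.p (d * q * d⁻¹) q]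
    refine Equiv.ext fun x => ?_
    rw [Perm.mul_apply, Perm.mul_apply]
    generalize hf : K.p (d * q * d⁻¹) = f at hb' ⊢
    have := hb x; have := hb (K.p t x); have := hb' x; have := hb' (K.p t x); have := i2 x
    have := (K.p q).injective.eq_iff (a := x) (b := K.p t x)
    have := f.injective.eq_iff (a := x) (b := K.p t x)
    grind
  rcases K.eq_or_eq key with e | e <;>
    simp only [Set.mem_insert_iff, Set.mem_singleton_iff]
  · exact Or.inl (by rw [e]; group)
  · refine Or.inr (Or.inl ?_)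
    rw [e, K.comm]; group

theorem exists_reps (h8 : 8 ≤ (K.p t).support.card) (a : Fin n) : ∃ c e, K.p t c ≠ c ∧ K.p t e ≠ e ∧
    rep K t a ≠ rep K t c ∧ rep K t a ≠ rep K t e ∧ rep K t c ≠ rep K t e := by
  set T := Finset.univ.filter fun x => K.p t x ≠ x ∧ rep K t x = x
  have h4 : 1 < (T \ {rep K t a}).card := by
    have h1 := Finset.le_card_sdiff {rep K t a} T
    have h2 := card_reps K htt
    rw [Finset.card_singleton] at h1
    change 2 * T.card = _ at h2
    omega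
  obtain ⟨c, hc, e, he, hce⟩ := Finset.one_lt_card.1 h4
  simp only [T, Finset.mem_sdiff, Finset.mem_filter, Finset.mem_univ, true_and, Finset.mem_singleton] at hc he
  exact ⟨c, e, hc.1.1, he.1.1, by rw [hc.1.2]; exact Ne.symm hc.2, by rw [he.1.2]; exact Ne.symm he.2,
    by rw [hc.1.2, he.1.2]; exact hce⟩

theorem flip_mul {a c e : Fin n} (ha : K.p t a ≠ a) (hc : K.p t c ≠ c) (he : K.p t e ≠ e)
    (hac : rep K t a ≠ rep K t c) (hae : rep K t a ≠ rep K t e) (hce : rep K t c ≠ rep K t e) :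
    swap a (K.p t a) * swap c (K.p t c) * (swap a (K.p t a) * swap e (K.p t e)) =
      swap c (K.p t c) * swap e (K.p t e) := by
  rw [Ne, rep_eq_iff K htt] at hac hae hce
  push Not at hac hae hce
  have i2 := inv_inv_of_sq K htt
  have := i2 a; have := i2 c; have := i2 e
  refine Equiv.ext fun x => ?_
  simp only [Perm.mul_apply, swap_apply_def]
  grind

theorem comm_s_of_anticomm {u w : C} (h : u * w = w * u * K.s) : u * w * u⁻¹ * w⁻¹ = K.s := by
  rw [h, K.comm]; group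

theorem phi1_z (hs : (K.s : G) = z) (h8 : 8 ≤ (K.p t).support.card) : Phi1 z (t : G) z := by
  obtain ⟨a, ha⟩ := Finset.card_pos.1 (show 0 < (K.p t).support.card by omega)
  rw [mem_support] at ha
  obtain ⟨c, e, hc, he, hac, hae, hce⟩ := exists_reps htt h8 a
  obtain ⟨q, hq, hqd, hqt⟩ := flip_spec htt ha hc hac
  obtain ⟨r, hr, hrd, hrt⟩ := flip_spec htt ha he hae
  obtain ⟨v, hx, hxd, -⟩ := flip_spec htt hc he hce
  refine ⟨q, (tame_iff hs).2 hqt, r, (tame_iff hs).2 hrt, ?_⟩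
  have h := K.anticomm hqd hrd (by rw [hq, hr, flip_mul htt ha hc he hac hae hce, ← hx]; exact hxd)
  exact (congrArg Subtype.val (comm_s_of_anticomm htt h)).trans hs

theorem comm_ne_t {u w : C} {a : Fin n} (ha : K.p t a ≠ a) (hu : u * t = t * u) (hw : w * t = t * w)
    (hub : ∀ x, K.p t x ≠ x → K.p u x = x ∨ K.p u x = K.p t x)
    (hwb : ∀ x, K.p t x ≠ x → K.p w x = x ∨ K.p w x = K.p t x) : u * w * u⁻¹ * w⁻¹ ≠ t := by
  intro e
  have h : u * w = t * (w * u) := by rw [← e]; group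
  have h' := congrArg (fun f : Perm (Fin n) => f a) (congrArg K.p h)
  simp only [map_mul, Perm.mul_apply] at h'
  have i2 := inv_inv_of_sq K htt
  have := i2 a
  have := hub a ha; have := hwb a ha
  have ha' : K.p t (K.p t a) ≠ K.p t a := fun h => ha ((K.p t).injective h)
  have := hub _ ha'; have := hwb _ ha'
  have := commute_p K hu a; have := commute_p K hw a
  grind

theorem not_phi2_t (hs : (K.s : G) = z) (h8 : 8 ≤ (K.p t).support.card) : ¬ Phi2 z (t : G) (t : G) := by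
  rintro ⟨u', hu', w', hw', hc, e⟩
  obtain ⟨u, rfl, hu⟩ := exists_coe hu'
  obtain ⟨w, rfl, hw⟩ := exists_coe hw'
  have hblock : ∀ v : C, (∀ y ∈ ySet z (t : G), (v : G) * y = y * v) → ∀ x, K.p t x ≠ x →
      K.p v x = x ∨ K.p v x = K.p t x := by
    intro v hv x hx
    obtain ⟨c, d, hcm, hdm, hxc, hxd, hcd⟩ := exists_reps htt h8 x
    obtain ⟨q, hq, -, hqt⟩ := flip_spec htt hx hcm hxc
    obtain ⟨r, hr, -, hrt⟩ := flip_spec htt hx hdm hxd
    have key : ∀ q : C, Tame K t q → K.p q x ≠ x → K.p q (K.p v x) ≠ K.p v x := fun q hq hqx h => by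
      have hvq : v * q = q * v := Subtype.ext (hv _ ((tame_iff hs).2 hq))
      have := congrArg (fun f : Perm (Fin n) => f x) (congrArg K.p hvq)
      simp only [map_mul, Perm.mul_apply] at this
      exact hqx ((K.p v).injective (this.trans h))
    have h1 := key q hqt (by rw [hq]; simp only [Perm.mul_apply, swap_apply_def]; rw [Ne, rep_eq_iff K htt] at hxc; grind)
    have h2 := key r hrt (by rw [hr]; simp only [Perm.mul_apply, swap_apply_def]; rw [Ne, rep_eq_iff K htt] at hxd; grind)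
    rw [hq] at h1; rw [hr] at h2
    rw [Ne, rep_eq_iff K htt] at hxc hxd hcd
    have i2 := inv_inv_of_sq K htt
    have := i2 c; have := i2 d
    simp only [Perm.mul_apply, swap_apply_def] at h1 h2
    grind
  obtain ⟨a, ha⟩ := Finset.card_pos.1 (show 0 < (K.p t).support.card by omega)
  rw [mem_support] at ha
  exact comm_ne_t htt ha hu hw (hblock u fun y hy => (hc y hy).1) (hblock w fun y hy => (hc y hy).2)
    (Subtype.ext e)

theorem not_phi1_t (hs : (K.s : G) = z) (h16 : 10 ≤ (K.p t).support.card) : ¬ Phi1 z (t : G) (t : G) := by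
  rintro ⟨u', hu', w', hw', e⟩
  obtain ⟨u, rfl, hu⟩ := exists_tame hs hu'
  obtain ⟨w, rfl, hw⟩ := exists_tame hs hw'
  obtain ⟨a, ha⟩ := Finset.card_pos.1 (show 0 < (K.p t).support.card by omega)
  rw [mem_support] at ha
  exact comm_ne_t htt ha hu.comm hw.comm (fun x hx => hu.fix_moved K htt h16 hx)
    (fun x hx => hw.fix_moved K htt h16 hx) (Subtype.ext e)

theorem phi2_z (hs : (K.s : G) = z) (h5 : 5 ≤ (Finset.univ.filter fun x => K.p t x = x).card) :
    Phi2 z (t : G) z := by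
  set F := Finset.univ.filter fun x => K.p t x = x
  obtain ⟨f, hf, hfi⟩ : ∃ f : Fin 4 → Fin n, (∀ i, K.p t (f i) = f i) ∧ Function.Injective f := by
    obtain ⟨g⟩ := Function.Embedding.nonempty_of_card_le (α := Fin 4) (β := F) (by simp; omega)
    exact ⟨fun i => g i, fun i => (Finset.mem_filter.1 (g i).2).2, fun i j h => g.injective (Subtype.ext h)⟩
  have hne : ∀ i j : Fin 4, i ≠ j → f i ≠ f j := fun i j h e => h (hfi e)
  have mk : ∀ a b c d : Fin 4, a ≠ b → c ≠ d → a ≠ c → a ≠ d → b ≠ c → b ≠ d →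
      ∃ u : C, K.p u = swap (f a) (f b) * swap (f c) (f d) ∧ IsDT (K.p u) ∧ u * t = t * u ∧
        ∀ y, Tame K t y → u * y = y * u := by
    intro a b c d h1 h2 h3 h4 h5' h6
    have hdt : IsDT (swap (f a) (f b) * swap (f c) (f d)) :=
      ⟨_, _, _, _, hne _ _ h1, hne _ _ h2, hne _ _ h3, hne _ _ h4, hne _ _ h5', hne _ _ h6, rfl⟩
    obtain ⟨u, hu⟩ := K.surj _ (sign_dt hdt)
    refine ⟨u, hu, hu ▸ hdt, ?_, fun y hy => ?_⟩
    · exact (K.comm_of_fix (hne _ _ h1) (hne _ _ h2) (hne _ _ h3) (hne _ _ h4) (hne _ _ h5') (hne _ _ h6) hu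
        (hf a) (hf b) (hf c) (hf d)).eq
    · exact (K.comm_of_fix (hne _ _ h1) (hne _ _ h2) (hne _ _ h3) (hne _ _ h4) (hne _ _ h5') (hne _ _ h6) hu
        (hy.fix_fixed K h5 (hf a)) (hy.fix_fixed K h5 (hf b)) (hy.fix_fixed K h5 (hf c))
        (hy.fix_fixed K h5 (hf d))).eq
  obtain ⟨u, hu, hud, hut, huy⟩ := mk 0 1 2 3 (by decide) (by decide) (by decide) (by decide) (by decide) (by decide)
  obtain ⟨w, hw, hwd, hwt, hwy⟩ := mk 0 2 1 3 (by decide) (by decide) (by decide) (by decide) (by decide) (by decide)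
  obtain ⟨v, hv, hvd, -, -⟩ := mk 0 3 1 2 (by decide) (by decide) (by decide) (by decide) (by decide) (by decide)
  refine ⟨u, mem_dSet_coe hut, w, mem_dSet_coe hwt, fun y hy => ?_, ?_⟩
  · obtain ⟨y', rfl, hy'⟩ := exists_tame hs hy
    exact ⟨congrArg Subtype.val (huy y' hy'), congrArg Subtype.val (hwy y' hy')⟩
  · have e : K.p u * K.p w = K.p v := by
      rw [hu, hw, hv]
      have := hne 0 1 (by decide); have := hne 0 2 (by decide); have := hne 0 3 (by decide)
      have := hne 1 2 (by decide); have := hne 1 3 (by decide); have := hne 2 3 (by decide)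
      refine Equiv.ext fun x => ?_
      simp only [Perm.mul_apply, swap_apply_def]
      grind
    exact (congrArg Subtype.val (comm_s_of_anticomm htt (K.anticomm hud hwd (e ▸ hvd)))).trans hs

omit htt in
theorem support_bound {x : C} (hx : x * x = 1) (h1 : x ≠ 1) (h2 : x ≠ K.s) :
    8 ∣ (K.p x).support.card ∧ 8 ≤ (K.p x).support.card := by
  have hd := K.dvd_card_support hx
  refine ⟨hd, Nat.le_of_dvd (Finset.card_pos.2 ?_) hd⟩
  rw [Finset.nonempty_iff_ne_empty, Ne, support_eq_empty_iff]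
  exact fun e => (K.ker x e).elim h1 h2

omit htt in
/-- In degree at least thirteen the central involution is isolated. -/
theorem isolated_of_big (hn : 13 ≤ n) (hs : (K.s : G) = z) (g : G)
    (hg : g * z * g⁻¹ * z = z * (g * z * g⁻¹)) : g * z * g⁻¹ = z := by
  by_contra hne
  have hzz : z * z = 1 := by rw [← hs]; exact congrArg Subtype.val K.ss
  have hz1 : z ≠ 1 := fun e => K.s1 (Subtype.ext (hs.trans e))
  have mk : ∀ a : G, a * z * a⁻¹ * z = z * (a * z * a⁻¹) → a * z * a⁻¹ ≠ z → ∃ t : C, (t : G) = a * z * a⁻¹ ∧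
      t * t = 1 ∧ 8 ∣ (K.p t).support.card ∧ 8 ≤ (K.p t).support.card := by
    intro a hc ha
    have h2 : a * z * a⁻¹ * (a * z * a⁻¹) = 1 := by rw [conj_mul, hzz, mul_one, mul_inv_cancel]
    refine ⟨⟨_, Subgroup.mem_centralizer_singleton_iff.2 hc⟩, rfl, Subtype.ext h2,
      support_bound (Subtype.ext h2) (fun e => hz1 ?_) fun e => ha ((congrArg Subtype.val e).trans hs)⟩
    exact conj_eq_one_iff.1 (congrArg Subtype.val e)
  obtain ⟨t, htg, htt, hd, h8⟩ := mk g hg hne
  have hne' : g⁻¹ * z * g⁻¹⁻¹ ≠ z := fun e => hne (by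
    calc g * z * g⁻¹ = g * (g⁻¹ * z * g⁻¹⁻¹) * g⁻¹ := by rw [e]
      _ = z := by group)
  obtain ⟨t', htg', htt', hd', h8'⟩ := mk g⁻¹ (by
    calc g⁻¹ * z * g⁻¹⁻¹ * z = g⁻¹ * (z * (g * z * g⁻¹)) * g := by group
      _ = _ := by rw [← hg]; group) hne'
  have hzt : z * (t : G) = t * z := by rw [htg]; exact hg.symm
  -- conjugation by `g` takes `(z, t')` to `(t, z)`
  have c1 : g * z * g⁻¹ = t := htg.symm
  have c2 : g * (t' : G) * g⁻¹ = z := by rw [htg']; group
  rcases lt_or_ge (K.p t').support.card 10 with h10 | h10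
  · have h5 : 5 ≤ (Finset.univ.filter fun x => K.p t' x = x).card := by
      have h := Finset.card_compl (K.p t').support
      rw [Fintype.card_fin] at h
      have e : (Finset.univ.filter fun x => K.p t' x = x) = (K.p t').supportᶜ := by
        ext x; simp
      rw [e, h]
      omega
    have h := (phi2_z htt' hs h5).conj g
    rw [c1, c2] at h
    have h' : Phi2 z (t : G) (t : G) := by
      simpa only [Phi2, dSet_swap, ySet_swap hzt] using h
    exact not_phi2_t htt hs h8 h'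
  · refine not_phi1_t htt' hs h10 ?_
    have h := (phi1_z htt hs h8).conj g⁻¹
    have e1 : g⁻¹ * z * g⁻¹⁻¹ = t' := htg'.symm
    have e2 : g⁻¹ * (t : G) * g⁻¹⁻¹ = z := by rw [htg]; group
    have hzt' : z * (t' : G) = t' * z := (Subgroup.mem_centralizer_singleton_iff.1 t'.2).symm
    rw [e1, e2] at h
    simpa only [Phi1, ySet_swap hzt'] using h

end Cfsg.Lib.CoverAlt
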