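import Cfsg.Agent.Lib.CoverAlt.Cover

/-!
# Elements whose conjugates commute with them up to the two involutions

For an involution `t` of the cover, such an element of the centralizer of `t` permutes trivially the transpositions
of `t` when there are at least five of them, and fixes all fixed points of `t` when there are at least five.
-/

set_option autoImplicit false
set_option linter.unusedSectionVars false

namespace Cfsg.Lib.CoverAlt

open Equiv Equiv.Perm

theorem apply_inv_self' {α : Type*} (f : Perm α) (x : α) : f (f⁻¹ x) = x := f.apply_symm_apply x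

variable {n : ℕ}

/-- Cycling three points. -/
def rot (b c e x : Fin n) : Fin n := if x = b then c else if x = c then e else if x = e then b else x

theorem fix_of_twist (P : Fin n → Prop) [DecidablePred P] (key : Fin n → Fin n) (σ : Perm (Fin n))
    (hk : ∀ x, P x → P (key x) ∧ key (key x) = key x) (hσP : ∀ x, P x → P (σ x))
    (hσk : ∀ x y, P x → P y → (key (σ x) = key (σ y) ↔ key x = key y))
    (hT : 5 ≤ (Finset.univ.filter fun x => P x ∧ key x = x).card)
    (htw : ∀ b c e, P b → P c → P e → key b = b → key c = c → key e = e → b ≠ c → b ≠ e → c ≠ e →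
      ∃ ρ : Perm (Fin n), (∀ x, P x → P (ρ x) ∧ P (ρ⁻¹ x) ∧ key (ρ x) = rot b c e (key x)) ∧
        ∀ y, P y → key (σ (ρ (σ y))) = key (ρ (σ (ρ⁻¹ (σ (ρ y)))))) :
    ∀ x, P x → key (σ x) = key x := by
  classical
  intro x0 hx0
  obtain ⟨ha, haa⟩ := hk x0 hx0
  rw [(hσk x0 (key x0) hx0 ha).2 haa.symm]
  set a := key x0
  by_contra hne
  set b := key (σ a) with hb
  obtain ⟨hPb, hbb⟩ := hk _ (hσP a ha)
  rw [← hb] at hPb hbb
  set T := Finset.univ.filter fun x => P x ∧ key x = x with hTdef
  have hmem : ∀ {x}, x ∈ T → P x ∧ key x = x := fun hx => (Finset.mem_filter.1 hx).2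
  -- the equation of a three-cycle
  have step : ∀ c e, c ∈ T → e ∈ T → c ≠ a → c ≠ b → e ≠ a → e ≠ b → c ≠ e →
      key (σ c) = rot b c e (key (σ e)) := by
    intro c e hc he hca hcb hea heb hce
    obtain ⟨hPc, hcc⟩ := hmem hc
    obtain ⟨hPe, hee⟩ := hmem he
    obtain ⟨ρ, hρ, hρ'⟩ := htw b c e hPb hPc hPe hbb hcc hee hcb.symm heb.symm hce
    have e1 : key (ρ (σ a)) = c := by rw [(hρ _ (hσP a ha)).2.2, ← hb, rot, if_pos rfl]
    have e2 : key (ρ a) = a := by
      rw [(hρ a ha).2.2, haa, rot, if_neg (fun h => hne h.symm), if_neg hca.symm, if_neg hea.symm]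
    have e3 : key (σ (ρ a)) = b := by rw [(hσk _ a (hρ a ha).1 ha).2 (e2.trans haa.symm), hb]
    have hPx := hσP _ (hρ a ha).1
    set w := ρ⁻¹ (σ (ρ a)) with hw
    have hPw : P w := (hρ _ hPx).2.1
    have e4 : key w = e := by
      have h := (hρ w hPw).2.2
      rw [show ρ w = σ (ρ a) by rw [hw, apply_inv_self'], e3] at h
      simp only [rot] at h
      grind
    have h := hρ' a ha
    rw [← hw, (hσk (ρ (σ a)) c (hρ _ (hσP a ha)).1 hPc).2 (e1.trans hcc.symm), (hρ _ (hσP w hPw)).2.2,
      (hσk w e hPw hPe).2 (e4.trans hee.symm)] at h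
    exact h
  have hfix : ∀ e ∈ T, e ≠ a → e ≠ b → key (σ e) = e := by
    intro e he hea heb
    have h3 : 1 < (T \ {a, b, e}).card := by
      have h1 := Finset.le_card_sdiff {a, b, e} T
      have h2 : ({a, b, e} : Finset (Fin n)).card ≤ 3 := Finset.card_le_three
      omega
    obtain ⟨c, hc, c', hc', hcc'⟩ := Finset.one_lt_card.1 h3
    simp only [Finset.mem_sdiff, Finset.mem_insert, Finset.mem_singleton, not_or] at hc hc'
    have key1 : ∀ c, c ∈ T → c ≠ a → c ≠ b → c ≠ e → key (σ e) = c ∨ key (σ e) = e := by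
      intro c hc hca hcb hce
      have h := step c e hc he hca hcb hea heb hce
      obtain ⟨hPc, hcc⟩ := hmem hc
      obtain ⟨hPe, hee⟩ := hmem he
      by_cases h1 : key (σ e) = b
      · exfalso
        rw [hb] at h1
        have := (hσk e a hPe ha).1 h1
        rw [hee, haa] at this
        exact hea this
      by_contra h2
      push Not at h2
      rw [rot, if_neg h1, if_neg h2.1, if_neg h2.2] at h
      have := (hσk c e hPc hPe).1 h
      rw [hcc, hee] at this
      exact hce this
    rcases key1 c hc.1 hc.2.1 hc.2.2.1 hc.2.2.2 with h | h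
    · rcases key1 c' hc'.1 hc'.2.1 hc'.2.2.1 hc'.2.2.2 with h' | h'
      · exact absurd (h.symm.trans h') hcc'
      · exact h'
    · exact h
  have h3 : 1 < (T \ {a, b}).card := by
    have h1 := Finset.le_card_sdiff {a, b} T
    have h2 : ({a, b} : Finset (Fin n)).card ≤ 2 := Finset.card_le_two
    omega
  obtain ⟨c, hc, e, he, hce⟩ := Finset.one_lt_card.1 h3
  simp only [Finset.mem_sdiff, Finset.mem_insert, Finset.mem_singleton, not_or] at hc he
  have h := step c e hc.1 he.1 hc.2.1 hc.2.2 he.2.1 he.2.2 hce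
  rw [hfix c hc.1 hc.2.1 hc.2.2, hfix e he.1 he.2.1 he.2.2, rot, if_neg he.2.2, if_neg hce.symm,
    if_pos rfl] at h
  exact hc.2.2 h

/-- A three-cycle. -/
def cyc3 (b c e : Fin n) : Perm (Fin n) := swap b c * swap c e

theorem cyc3_apply {b c e : Fin n} (hbc : b ≠ c) (hbe : b ≠ e) (hce : c ≠ e) (x : Fin n) :
    cyc3 b c e x = rot b c e x := by
  simp only [cyc3, Perm.mul_apply, swap_apply_def, rot]
  grind

theorem cyc3_pow {b c e : Fin n} (hbc : b ≠ c) (hbe : b ≠ e) (hce : c ≠ e) : cyc3 b c e ^ 3 = 1 := by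
  refine Equiv.ext fun x => ?_
  simp only [pow_succ, pow_zero, one_mul, Perm.mul_apply, cyc3_apply hbc hbe hce, Perm.one_apply, rot]
  grind

variable {H : Type*} [Group H] (K : Cov H n) {t : H}

/-- An element of the centralizer of `t` commuting with its conjugates there, up to the two involutions. -/
structure Tame (t y : H) : Prop where
  comm : y * t = t * y
  tame : ∀ d : H, d * t = t * d →
    y * (d * y * d⁻¹) * y⁻¹ * (d * y * d⁻¹)⁻¹ ∈ ({1, K.s, t, K.s * t} : Set H)

theorem p_z0 {x : H} (h : x ∈ ({1, K.s, t, K.s * t} : Set H)) : K.p x = 1 ∨ K.p x = K.p t := by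
  simp only [Set.mem_insert_iff, Set.mem_singleton_iff] at h
  rcases h with rfl | rfl | rfl | rfl
  · exact Or.inl (map_one _)
  · exact Or.inl K.ps
  · exact Or.inr rfl
  · exact Or.inr (by rw [map_mul, K.ps, one_mul])

theorem inv_inv_of_sq (htt : t * t = 1) (x : Fin n) : K.p t (K.p t x) = x := by
  rw [← Perm.mul_apply, ← map_mul, htt, map_one, Perm.one_apply]

theorem commute_p {y : H} (hy : y * t = t * y) (x : Fin n) : K.p y (K.p t x) = K.p t (K.p y x) := by
  rw [← Perm.mul_apply, ← map_mul, hy, map_mul, Perm.mul_apply]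

theorem moved_stable {y : H} (hy : y * t = t * y) {x : Fin n} : K.p t (K.p y x) = K.p y x ↔ K.p t x = x := by
  rw [← commute_p K hy]
  exact (K.p y).injective.eq_iff

theorem odd_mem {ρ : Perm (Fin n)} (h3 : ρ ^ 3 = 1) (hc : ∀ x, ρ (K.p t x) = K.p t (ρ x)) :
    ∃ d : H, K.p d = ρ ∧ d * t = t * d := by
  have ho : Odd (orderOf ρ) := (show Odd 3 by decide).of_dvd_nat (orderOf_dvd_of_pow_eq_one h3)
  obtain ⟨d, hd, hd'⟩ := K.exists_odd_lift ho
  exact ⟨d, hd, (K.comm_of_odd (Cov.odd_of_pow ho hd') (hd ▸ Equiv.ext hc)).eq⟩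

/-- The twisting equation of a tame element. -/
theorem Tame.twist {y : H} (hy : Tame K t y) {ρ : Perm (Fin n)} (h3 : ρ ^ 3 = 1)
    (hc : ∀ x, ρ (K.p t x) = K.p t (ρ x)) :
    ∃ ε : Perm (Fin n), (ε = 1 ∨ ε = K.p t) ∧
      ∀ x, K.p y (ρ (K.p y x)) = ε (ρ (K.p y (ρ⁻¹ (K.p y (ρ x))))) := by
  obtain ⟨d, hd, hdt⟩ := odd_mem K h3 hc
  set w := y * (d * y * d⁻¹) * y⁻¹ * (d * y * d⁻¹)⁻¹ with hw
  refine ⟨K.p w, p_z0 K (hy.tame d hdt), fun x => ?_⟩
  have e : y * d * y = w * (d * y * d⁻¹ * y * d) := by rw [hw]; group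
  have := congrArg (fun f : Perm (Fin n) => f x) (congrArg K.p e)
  simpa [Perm.mul_apply, hd] using this

/-- With five fixed points of `t`, a tame element fixes all of them. -/
theorem Tame.fix_fixed {y : H} (hy : Tame K t y)
    (h5 : 5 ≤ (Finset.univ.filter fun x => K.p t x = x).card) {x : Fin n} (hx : K.p t x = x) : K.p y x = x := by
  refine fix_of_twist (fun x => K.p t x = x) id (K.p y) (fun _ h => ⟨h, rfl⟩)
    (fun x h => (moved_stable K hy.comm).2 h) (fun a b _ _ => (K.p y).injective.eq_iff) ?_ ?_ x hx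
  · simpa using h5
  intro b c e hb hc he _ _ _ hbc hbe hce
  have hcm : ∀ z, cyc3 b c e (K.p t z) = K.p t (cyc3 b c e z) := fun z => by
    simp only [cyc3_apply hbc hbe hce, rot]
    have := (K.p t).injective.eq_iff (a := z) (b := b)
    have := (K.p t).injective.eq_iff (a := z) (b := c)
    have := (K.p t).injective.eq_iff (a := z) (b := e)
    grind
  refine ⟨cyc3 b c e, fun z hz => ⟨(hcm z).symm.trans (congrArg _ hz), ?_, cyc3_apply hbc hbe hce z⟩, fun z hz => ?_⟩
  · refine (cyc3 b c e).injective ?_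
    rw [hcm, apply_inv_self', hz]
  obtain ⟨ε, hε, heq⟩ := hy.twist K (cyc3_pow hbc hbe hce) hcm
  show K.p y (cyc3 b c e (K.p y z)) = _
  rw [heq z]
  rcases hε with rfl | rfl
  · rfl
  -- everything in sight is fixed by `t`
  simp only [id]
  rw [← hcm, ← commute_p K hy.comm]
  have hz1 : K.p t (K.p y (cyc3 b c e z)) = K.p y (cyc3 b c e z) :=
    (moved_stable K hy.comm).2 ((hcm z).symm.trans (congrArg _ hz))
  have hz2 : K.p t ((cyc3 b c e)⁻¹ (K.p y (cyc3 b c e z))) = (cyc3 b c e)⁻¹ (K.p y (cyc3 b c e z)) :=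
    (cyc3 b c e).injective (by rw [hcm, apply_inv_self', hz1])
  rw [hz2]

/-- The representative of a transposition of `t`. -/
def rep (t : H) (x : Fin n) : Fin n := min x (K.p t x)

theorem rep_eq_iff (htt : t * t = 1) {x y : Fin n} : rep K t x = rep K t y ↔ x = y ∨ x = K.p t y := by
  constructor
  · intro h
    rcases min_choice x (K.p t x) with h1 | h1 <;> rcases min_choice y (K.p t y) with h2 | h2 <;>
      rw [rep, rep, h1, h2] at h
    · exact Or.inl h
    · exact Or.inr h
    · exact Or.inr (by rw [← h, inv_inv_of_sq K htt])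
    · exact Or.inl ((K.p t).injective h)
  · rintro (rfl | rfl)
    · rfl
    · rw [rep, rep, inv_inv_of_sq K htt, min_comm]

theorem rep_idem (htt : t * t = 1) (x : Fin n) : rep K t (rep K t x) = rep K t x := by
  rw [rep_eq_iff K htt]
  exact min_choice x (K.p t x)

theorem rep_tau (htt : t * t = 1) (x : Fin n) : rep K t (K.p t x) = rep K t x :=
  (rep_eq_iff K htt).2 (Or.inr rfl)

theorem card_reps (htt : t * t = 1) :
    2 * (Finset.univ.filter fun x => K.p t x ≠ x ∧ rep K t x = x).card = (K.p t).support.card := by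
  set A := Finset.univ.filter fun x => K.p t x ≠ x ∧ rep K t x = x
  set B := Finset.univ.filter fun x => K.p t x ≠ x ∧ rep K t x ≠ x
  have hAB : A.card = B.card := by
    refine Finset.card_bij' (fun x _ => K.p t x) (fun x _ => K.p t x) ?_ ?_
      (fun x _ => inv_inv_of_sq K htt x) (fun x _ => inv_inv_of_sq K htt x) <;>
    · intro x hx
      replace hx := (Finset.mem_filter.1 hx).2
      refine Finset.mem_filter.2 ⟨Finset.mem_univ _, ?_⟩
      simp only [rep, inv_inv_of_sq K htt] at hx ⊢
      refine ⟨hx.1.symm, ?_⟩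
      rcases lt_or_gt_of_ne hx.1 with h | h
      · have h' := hx.2
        simp only [min_eq_right h.le, min_eq_left h.le] at h' ⊢
        all_goals grind
      · have h' := hx.2
        simp only [min_eq_right h.le, min_eq_left h.le] at h' ⊢
        all_goals grind
  have : (K.p t).support = A ∪ B := by
    ext x
    simp only [mem_support, A, B, Finset.mem_union, Finset.mem_filter, Finset.mem_univ, true_and]
    tauto
  rw [this, Finset.card_union_of_disjoint, ← hAB]
  · omega
  · rw [Finset.disjoint_filter]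
    tauto

/-- With five transpositions in `t`, a tame element fixes each of them. -/
theorem Tame.fix_moved (htt : t * t = 1) {y : H} (hy : Tame K t y) (h5 : 10 ≤ (K.p t).support.card)
    {x : Fin n} (hx : K.p t x ≠ x) : K.p y x = x ∨ K.p y x = K.p t x := by
  rw [← rep_eq_iff K htt]
  refine fix_of_twist (fun x => K.p t x ≠ x) (rep K t) (K.p y) (fun z hz => ⟨?_, rep_idem K htt z⟩)
    (fun z hz => fun e => hz ((moved_stable K hy.comm).1 e)) (fun a b _ _ => ?_) ?_ ?_ x hx
  · rcases min_choice z (K.p t z) with e | e <;> rw [rep, e]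
    · exact hz
    · exact fun h => hz ((K.p t).injective h)
  · rw [rep_eq_iff K htt, rep_eq_iff K htt, ← commute_p K hy.comm, (K.p y).injective.eq_iff,
      (K.p y).injective.eq_iff]
  · have := card_reps K htt
    omega
  intro b c e hb hc he hb' hc' he' hbc hbe hce
  have i2 := inv_inv_of_sq K htt
  have hne : ∀ {u v}, rep K t u = u → rep K t v = v → u ≠ v → u ≠ K.p t v := fun hu hv huv e' =>
    huv (hu.symm.trans (((rep_eq_iff K htt).2 (Or.inr e')).trans hv))
  set τ := K.p t with hτ
  set ρ := cyc3 b c e * cyc3 (τ b) (τ c) (τ e) with hρ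
  have t1 : τ b ≠ τ c := fun h => hbc (τ.injective h)
  have t2 : τ b ≠ τ e := fun h => hbe (τ.injective h)
  have t3 : τ c ≠ τ e := fun h => hce (τ.injective h)
  have n1 := hne hb' hc' hbc
  have n2 := hne hb' he' hbe
  have n3 := hne hc' hb' hbc.symm
  have n4 := hne hc' he' hce
  have n5 := hne he' hb' hbe.symm
  have n6 := hne he' hc' hce.symm
  have hap : ∀ z, ρ z = if z = b then c else if z = c then e else if z = e then b else
      if z = τ b then τ c else if z = τ c then τ e else if z = τ e then τ b else z := fun z => by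
    simp only [hρ, Perm.mul_apply, cyc3_apply hbc hbe hce, cyc3_apply t1 t2 t3, rot]
    grind
  have hcm : ∀ z, ρ (τ z) = τ (ρ z) := fun z => by
    simp only [hap]
    have := i2 z; have := i2 b; have := i2 c; have := i2 e
    have := τ.injective.eq_iff (a := z) (b := b)
    have := τ.injective.eq_iff (a := z) (b := c)
    have := τ.injective.eq_iff (a := z) (b := e)
    grind
  have h3 : ρ ^ 3 = 1 := by
    refine Equiv.ext fun z => ?_
    simp only [pow_succ, pow_zero, one_mul, Perm.mul_apply, hap, Perm.one_apply]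
    grind
  refine ⟨ρ, fun z hz => ⟨fun h => hz (ρ.injective ((hcm z).trans h)), fun h => hz ?_, ?_⟩, fun z _ => ?_⟩
  · have := hcm (ρ⁻¹ z)
    rw [h, apply_inv_self'] at this
    exact this.symm
  · have hrz := rep_idem K htt z
    rw [hap]
    have := rep_tau K htt b; have := rep_tau K htt c; have := rep_tau K htt e
    have hcases : rep K t z = z ∨ rep K t z = τ z := min_choice z (τ z)
    simp only [rot]
    have := i2 z; have := i2 b; have := i2 c; have := i2 e
    have := rep_tau K htt z
    grind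
  obtain ⟨ε, hε, heq⟩ := hy.twist K h3 hcm
  rw [heq z]
  rcases hε with rfl | rfl
  · rfl
  · exact rep_tau K htt _

end Cfsg.Lib.CoverAlt
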